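import Groth.Agent.LefPen.K287.OmegaPn
import Groth.Agent.Lefpen.H121.CurveForm
import Groth.Agent.Lefpen.H717.ProjIrr
import Groth.Agent.S7772

/-!
# The ideal, the conormal module and the canonical module of a hypersurface in projective space

* `isEff_hypIdeal`, `nonempty_idealMod_iso`: `I_F` is effective Cartier, `≅ O(-b)` for a nonzero form of degree `b`.
* `mk_conormal`, `mk_omega`: for `X = V(F)` smooth of relative dimension `m`, `m + 1 = N`:
  `[Λ^m Ω_X] = h ^ (b - N - 1)` in `Pic X`.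
-/

set_option autoImplicit false
universe u

open CategoryTheory AlgebraicGeometry Limits TopologicalSpace Opposite MvPolynomial

namespace K287.Hyp

open LefPen Groth.Agent.Lefpen.H718.Chart Groth.Agent.Lefpen.H705.HypIdeal Groth.Agent.Lefpen.H705.SecIdeal
open Groth.Agent.Lefpen.H705.ChartPoly Groth.Agent.Sga5 Groth.Agent.Fdesc.LocGen
open Groth.Agent.Lefpen.H121.ChartLift Groth.Agent.FormalB Groth.Agent.Dix.IdealModCartier
open Groth.Agent.Lefpen.H121.CurveForm Groth.Agent.Picfga.LineHom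

variable {N : ℕ} {k : Type u} [Field k] {b : ℕ} (F : Form N k b)

theorem isInvertible_of_iso' {X : Scheme.{u}} {L L' : X.Modules} (e : L ≅ L') (h : PicF.IsInvertible L) :
    PicF.IsInvertible L' := fun x => by
  obtain ⟨U, hx, ⟨f⟩⟩ := h x
  exact ⟨U, hx, ⟨(Scheme.Modules.restrictFunctor U.ι).mapIso e.symm ≪≫ f⟩⟩

theorem dehom_ne_zero (hF : F.1 ≠ 0) (i : Fin (N + 1)) : LefPen.dehom F i ≠ 0 := by
  rw [dehom_eq]
  intro h
  have h1 : ProjChart.dehom N k i F.1 = 0 := (polyToChart_bijective i).1 (by rw [h, map_zero])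
  exact hF (dehom_injOn i F.2 (isHomogeneous_zero _ _ _) (by rw [h1, map_zero]))

theorem dehom_nzd (hF : F.1 ≠ 0) (i : Fin (N + 1)) :
    LefPen.dehom F i ∈ nonZeroDivisors Γ(CohB1.ProjSpace N k, chart N k i) := by
  have hne : Nonempty (chart N k i) := by
    by_contra h
    have h1 : chart N k i = ⊥ := by
      ext x
      constructor
      · intro hx
        exact (h ⟨⟨x, hx⟩⟩).elim
      · intro hx
        exact hx.elim
    have h2 : Subsingleton Γ(CohB1.ProjSpace N k, chart N k i) := by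
      rw [h1]; infer_instance
    exact dehom_ne_zero F hF i (Subsingleton.elim _ _)
  exact mem_nonZeroDivisors_of_ne_zero (dehom_ne_zero F hF i)

theorem ideal_chart (i : Fin (N + 1)) :
    (hypIdeal F).ideal ⟨chart N k i, isAffineOpen_chart i⟩ = Ideal.span {LefPen.dehom F i} := by
  have h := hypIdeal_ideal_of_le F i ⟨chart N k i, isAffineOpen_chart i⟩ le_rfl
  rw [h, ores_refl]

theorem genOn (hF : F.1 ≠ 0) (i : Fin (N + 1)) : GenOn (hypIdeal F) (LefPen.dehom F i) :=
  genOn_of_affine (U := ⟨chart N k i, isAffineOpen_chart i⟩) (dehom_nzd F hF i) (ideal_chart F i)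

theorem isEff_hypIdeal (hF : F.1 ≠ 0) : BlowUp.IsEffCartierIdeal (hypIdeal F) := by
  intro y
  have hy : y ∈ ⨆ j : Fin (N + 1), chart N k j := by
    rw [iSup_chart]; trivial
  obtain ⟨j, hj⟩ := Opens.mem_iSup.1 hy
  exact ⟨⟨chart N k j, isAffineOpen_chart j⟩, hj, _, dehom_nzd F hF j, ideal_chart F j⟩

/-- The ideal module of a hypersurface of degree `b` is `O(-b)`. -/
theorem nonempty_idealMod_iso (hF : F.1 ≠ 0) : Nonempty (ClSub.idealMod (hypIdeal F) ≅
    Twist.twistProjSpace N k (-(b : ℤ))) := by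
  obtain ⟨g, hg, hrel⟩ := exists_gens (N := N) (k := k) (-(b : ℤ))
  have hn : ∀ i, ∃ n : Γ(ClSub.idealMod (hypIdeal F), chart N k i),
      val (hypIdeal F) n = LefPen.dehom F i := fun i =>
    exists_val_eq _ ⟨chart N k i, isAffineOpen_chart i⟩ (by
      rw [ideal_chart]; exact Ideal.mem_span_singleton_self _)
  choose n hn using hn
  have gn : ∀ i, IsGen (n i) := fun i => isGen_of_genOn ((hn i).symm ▸ genOn F hF i)
  obtain ⟨φ, -⟩ := exists_iso (L := Twist.twistProjSpace N k (-(b : ℤ)))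
    (N := ClSub.idealMod (hypIdeal F)) iSup_chart (e := g) hg (n := n)
    (trans_of_inf hg (by
      intro i j
      refine ⟨ores (inf_le_left : chart N k i ⊓ chart N k j ≤ _) (ratio i j) ^ b, ?_, ?_⟩
      · have h1 := hrel i j
        have h2 : (-(b : ℤ)).toNat = 0 := Int.toNat_of_nonpos (by omega)
        have h3 : (- -(b : ℤ)).toNat = b := by simp
        rw [h2, h3, pow_zero, one_smul] at h1
        exact h1
      · apply val_injective
        rw [val_smul, val_res, val_res, hn, hn]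
        exact ores_dehom F i j _ inf_le_left inf_le_right)) gn
  exact ⟨φ.symm⟩

open Groth.Agent.Grpsch.PicGrp Groth.Agent.Lefpen.H21.PicTwist K287.OmegaPn

/-- The class of the conormal module of the hypersurface. -/
theorem conormal_iso (hF : F.1 ≠ 0) : Nonempty (Omega.conormal (hypIdeal F).subschemeι ≅
    (Scheme.Modules.pullback (hypIdeal F).subschemeι).obj (Twist.twistProjSpace N k (-(b : ℤ)))) := by
  obtain ⟨e⟩ := nonempty_idealMod_iso F hF
  have h : (hypIdeal F).subschemeι.ker = hypIdeal F := (hypIdeal F).ker_subschemeι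
  refine ⟨(Scheme.Modules.pullback (hypIdeal F).subschemeι).mapIso (eqToIso ?_ ≪≫ e)⟩
  rw [h]

/-- **The canonical module of a smooth hypersurface.** -/
theorem mk_omega (hF : F.1 ≠ 0) (m : ℕ) (hm : m + 1 = N)
    [SmoothOfRelativeDimension m ((hypIdeal F).subschemeι ≫ CohB1.ProjSpace.toSpec N k)]
    {W : (hypIdeal F).subscheme.Modules}
    (hW : ExtPow.IsExtPow m (Omega.sheaf ((hypIdeal F).subschemeι ≫ CohB1.ProjSpace.toSpec N k)) W)
    (hWi : PicF.IsInvertible W) :
    mk W hWi = hyp (hypIdeal F).subschemeι ^ ((b : ℤ) - (N + 1)) := by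
  have hs : SmoothOfRelativeDimension N (CohB1.ProjSpace.toSpec N k) :=
    Groth.Agent.Sga5.ProjSmooth.smooth_toSpec N k
  have h1 : FlatMod.IsFinLocFreeOfRank N (Omega.sheaf (CohB1.ProjSpace.toSpec N k)) :=
    Groth.Agent.Dual.H339.OmegaRank.isFinLocFreeOfRank_omega N (CohB1.ProjSpace.toSpec N k)
  obtain ⟨D, hD⟩ := Groth.Agent.Dual.H366.ExtQCoh.exists_isExtPow N
    (Groth.Agent.Ega2.QCohLocal.isQCoh_of_isFinLocFree (Groth.Agent.Krr.H487.KerRank.isFinLocFree_of_rank h1))
  have hDi := isInvertible_extPow h1 hD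
  have h2 := omega_projSpace N k hD hDi
  have hL : ExtPow.IsExtPow (N - m) (Omega.conormal (hypIdeal F).subschemeι)
      (Omega.conormal (hypIdeal F).subschemeι) := by
    have : N - m = 1 := by omega
    rw [this]
    exact Groth.Agent.Sga67.TensorOps.isExtPow_one _
  obtain ⟨-, ⟨e⟩⟩ := Groth.Agent.S7772.result _ _ _ (CohB1.ProjSpace.toSpec N k)
    ((hypIdeal F).subschemeι ≫ CohB1.ProjSpace.toSpec N k) N m (by omega) (hypIdeal F).subschemeι rfl D hD W hW _ hL
  obtain ⟨e'⟩ := conormal_iso F hF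
  have hc : PicF.IsInvertible (Omega.conormal (hypIdeal F).subschemeι) :=
    isInvertible_of_iso' e'.symm (isInvertible_pullback_twist _ _)
  have h3 : pull (hypIdeal F).subschemeι (mk D hDi) = mk W hWi * mk _ hc := by
    rw [pull_mk, mk_mul_mk]
    exact mk_congr e
  have h4 : mk _ hc = hyp (hypIdeal F).subschemeι ^ (-(b : ℤ)) := by
    rw [mk_eq_hyp_zpow_iff]
    exact ⟨e'⟩
  have h5 : pull (hypIdeal F).subschemeι (mk (Twist.twistProjSpace N k (-1)) (isInv N k (-1))) =
      hyp (hypIdeal F).subschemeι ^ (-1 : ℤ) := by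
    rw [pull_mk, ← mk_pullback_twist]
  rw [h2, map_pow, h5, h4] at h3
  rw [eq_mul_inv_of_mul_eq h3.symm, ← zpow_natCast, ← zpow_mul, ← zpow_neg, ← zpow_add]
  congr 1
  push_cast
  ring

end K287.Hyp
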