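import Groth.Agent.LefPen.K287.CISurf
import Groth.Agent.Surf.K465.ProjH
import Groth.Agent.AlgSp.K647.CartDesc
import Groth.Agent.S1535

/-!
# Curves on smooth surfaces in `P^3` with the degree and genus of a complete intersection: the main argument
-/

set_option autoImplicit false
universe u

open CategoryTheory AlgebraicGeometry Limits TopologicalSpace Opposite MvPolynomial

namespace K287.CIMain

open LefPen Groth.Agent Groth.Agent.Grpsch.PicGrp Groth.Agent.Lefpen.H21.PicTwist K464.Base K464.Curves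
open K287.Hyp K287.Num K287.CISurf Groth.Agent.Lefpen.H705.ChartPoly Groth.Agent.Lefpen.H705.HypIdeal

theorem mem_zeroLocus_zero {X : Scheme.{u}} {C : X.IdealSheafData} {U : X.affineOpens}
    (ha : C.ideal U = Ideal.span {0}) {y : X} (hy : y ∈ U.1) : y ∈ C.support := by
  rw [Scheme.IdealSheafData.mem_support_iff_of_mem hy, ha, Scheme.mem_zeroLocus_iff]
  intro f hf
  have h4 : f = 0 := by
    have h5 : f ∈ Ideal.span ({0} : Set Γ(X, U.1)) := hf
    rwa [Ideal.span_singleton_eq_bot.2 rfl, Ideal.mem_bot] at h5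
  rw [h4, Scheme.basicOpen_zero]
  exact fun h => h.elim

/-- A locally principal proper closed subscheme of smaller dimension in an integral scheme is effective Cartier. -/
theorem isEff_of_locPrincipal {X : Scheme.{u}} [IsIntegral X] {C : X.IdealSheafData} (h : Curv2.IsLocPrincipal C)
    (hdim : topologicalKrullDim C.subscheme ≠ topologicalKrullDim X) : BlowUp.IsEffCartierIdeal C := by
  intro x
  obtain ⟨U, hxU, a, ha⟩ := K647.CartDesc.isLocPrincipal_iff.1 h x
  refine ⟨U, hxU, a, ?_, ha⟩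
  have hne : Nonempty U.1 := ⟨⟨x, hxU⟩⟩
  refine mem_nonZeroDivisors_of_ne_zero ?_
  rintro rfl
  apply hdim
  have h1 : (C.support : Set X) = Set.univ := by
    have h2 : (U.1 : Set X) ⊆ C.support := fun y hy => mem_zeroLocus_zero ha hy
    have h4 : Dense (U.1 : Set X) := U.1.isOpen.dense ⟨x, hxU⟩
    exact Set.eq_univ_of_univ_subset (h4.closure_eq ▸ closure_minimal h2 C.support.isClosed)
  rw [dim_sub, h1]
  exact IsHomeomorph.topologicalKrullDim_eq _ (Homeomorph.Set.univ X).isHomeomorph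

variable (k : Type u) [Field k] {d : ℕ} (F : Form 3 k d)

theorem form_ne_zero (h : topologicalKrullDim (hypIdeal F).subscheme = 2) : F.1 ≠ 0 := by
  intro h0
  have h1 : ((hypIdeal F).support : Set (CohB1.ProjSpace 3 k)) = Set.univ := by
    refine Set.eq_univ_of_forall fun x => ?_
    obtain ⟨i, hi⟩ := Opens.mem_iSup.1 (show x ∈ ⨆ j : Fin (3 + 1), chart 3 k j by rw [iSup_chart]; trivial)
    refine mem_zeroLocus_zero (U := ⟨chart 3 k i, isAffineOpen_chart i⟩) ?_ hi
    rw [ideal_chart, dehom_eq, h0, map_zero, map_zero]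
  have h2 : topologicalKrullDim (hypIdeal F).subscheme = ((3 : ℕ) : WithBot ℕ∞) := by
    rw [dim_sub, h1, ← K711.ProjDim.topologicalKrullDim_projSpace 3 k]
    exact IsHomeomorph.topologicalKrullDim_eq _ (Homeomorph.Set.univ _).isHomeomorph
  rw [h2] at h
  have h3 : (3 : ℕ) = 2 := by exact_mod_cast h
  omega

variable (hF : F.1 ≠ 0)

theorem isProper_P : IsProper (CohB1.ProjSpace 3 k ↘ Spec (CommRingCat.of k)) :=
  Groth.Agent.Ega3B.ProjProper.isProper_toSpec 3 k

include hF in
theorem ic_hyp : ic (hypIdeal F) (isEff_hypIdeal F hF) = o 3 k (-(d : ℤ)) := by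
  rw [ic, o, mk_eq_iff]
  exact nonempty_idealMod_iso F hF

theorem chi_o (t : ℤ) : chi k (CohB1.ProjSpace 3 k) (o 3 k t) = VarietyB.EulerBinom.c 3 t := by
  rw [o, chi_mk]
  exact VarietyB.EulerBinom.euler_twist k 3 t

include hF in
theorem chi_hyp (t : ℤ) :
    letI := overC k (CohB1.ProjSpace 3 k) (hypIdeal F)
    chi k (hypIdeal F).subscheme (hyp (hypIdeal F).subschemeι ^ t) =
      VarietyB.EulerBinom.c 3 t - VarietyB.EulerBinom.c 3 (t - d) := by
  letI := overC k (CohB1.ProjSpace 3 k) (hypIdeal F)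
  have := isProper_P k
  have hi := Groth.Agent.Ega3B.ProjTwist.isInvertible_twistProjSpace 3 k t
  have h := euler_quotMod_tensor_eq k (CohB1.ProjSpace 3 k) (isEff_hypIdeal F hF) hi
  rw [euler_quotMod_tensor_sub k (CohB1.ProjSpace 3 k) (hypIdeal F) hi, ic_hyp k F hF] at h
  have h1 : mk (Twist.twistProjSpace 3 k t) hi = o 3 k t := rfl
  rw [h1, ← o_add, chi_o, chi_o] at h
  rw [← mk_pullback_twist, chi_mk]
  refine h.trans ?_
  rw [neg_add_eq_sub]

include hF in
/-- `H.H = d`. -/
theorem dot_h_h :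
    letI := overC k (CohB1.ProjSpace 3 k) (hypIdeal F)
    dot k (hypIdeal F).subscheme (hyp (hypIdeal F).subschemeι) (hyp (hypIdeal F).subschemeι) = d := by
  letI := overC k (CohB1.ProjSpace 3 k) (hypIdeal F)
  have h0 := chi_hyp k F hF 0
  have h1 := chi_hyp k F hF 1
  have h2 := chi_hyp k F hF 2
  rw [zpow_zero] at h0
  rw [zpow_one] at h1
  have e2 : hyp (hypIdeal F).subschemeι * hyp (hypIdeal F).subschemeι = hyp (hypIdeal F).subschemeι ^ (2 : ℤ) := by
    rw [zpow_two]
  have c0 := six_c 0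
  have c1 := six_c 1
  have c2 := six_c 2
  have d0 := six_c (0 - d)
  have d1 := six_c (1 - d)
  have d2 := six_c (2 - d)
  have key : 6 * dot k (hypIdeal F).subscheme (hyp (hypIdeal F).subschemeι) (hyp (hypIdeal F).subschemeι) = 6 * d := by
    rw [dot_def, e2, h0, h1, h2]
    linear_combination c0 - d0 - 2 * (c1 - d1) + c2 - d2
  linarith

/-- **Main theorem**. -/
theorem main [IsAlgClosed k] (hd : 1 ≤ d)
    [Smooth ((hypIdeal F).subschemeι ≫ CohB1.ProjSpace.toSpec 3 k)]
    (hX2 : topologicalKrullDim (hypIdeal F).subscheme = 2)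
    (C : (hypIdeal F).subscheme.IdealSheafData) (hCloc : Curv2.IsLocPrincipal C)
    (hC1 : topologicalKrullDim C.subscheme = 1) (m : ℕ)
    (hdeg : @Curv2.deg k _ C.subscheme ⟨C.subschemeι ≫ (hypIdeal F).subschemeι ≫ CohB1.ProjSpace.toSpec 3 k⟩
      ((Scheme.Modules.pullback (C.subschemeι ≫ (hypIdeal F).subschemeι)).obj (Twist.twistProjSpace 3 k 1)) 1 =
        (d : ℤ) * m)
    (hchi : 2 * @Curv2.euler k _ C.subscheme ⟨C.subschemeι ≫ (hypIdeal F).subschemeι ≫ CohB1.ProjSpace.toSpec 3 k⟩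
      (Coh.structureModule C.subscheme) = (d : ℤ) * m * (4 - (d : ℤ) - m)) :
    ∃ G : Form 3 k m, C = (hypIdeal G).comap (hypIdeal F).subschemeι := by
  have hF := form_ne_zero k F hX2
  have hG1 : ∀ _ : Fin 1, 1 ≤ d := fun _ => hd
  have hci := hyp_eq_ci k F
  have hconn := geomConn_gen hG1 (fun _ : Fin 1 => F) _ hci hX2
  letI := overC k (CohB1.ProjSpace 3 k) (hypIdeal F)
  have hf : ((hypIdeal F).subscheme ↘ Spec (CommRingCat.of k)) =
    (hypIdeal F).subschemeι ≫ CohB1.ProjSpace.toSpec 3 k := rfl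
  have hint : IsIntegral (hypIdeal F).subscheme :=
    K533.CurveBasic.isIntegral ((hypIdeal F).subschemeι ≫ CohB1.ProjSpace.toSpec 3 k)
  have hsm : Smooth ((hypIdeal F).subscheme ↘ Spec (CommRingCat.of k)) := by rw [hf]; infer_instance
  obtain ⟨hprop, hamp⟩ := K465.ProjH.facts k (hypIdeal F).subscheme (hypIdeal F).subschemeι rfl
  have hirr : IrreducibleSpace (hypIdeal F).subscheme := inferInstance
  have hs2 : SmoothOfRelativeDimension 2 ((hypIdeal F).subscheme ↘ Spec (CommRingCat.of k)) :=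
    K457.Smooth.relDim_of_regular k (hypIdeal F).subscheme 2 hX2
      (fun x => S1535.result k (hypIdeal F).subscheme x)
  have hs2' : SmoothOfRelativeDimension 2 ((hypIdeal F).subschemeι ≫ CohB1.ProjSpace.toSpec 3 k) := hs2
  obtain ⟨W, hWi, hW, -⟩ := K457.Smooth.exists_canonical k (hypIdeal F).subscheme 2
  have hw := mk_omega F hF 2 rfl (W := W) hW hWi
  have hCe : BlowUp.IsEffCartierIdeal C := isEff_of_locPrincipal hCloc (by
    rw [hC1, hX2]
    intro h
    have h3 : (1 : ℕ) = 2 := by exact_mod_cast h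
    omega)
  have h2 : topologicalKrullDim (hypIdeal F).subscheme ≤ (2 : ℕ) := hX2.le
  have hhh := dot_h_h k F hF
  set h := hyp (hypIdeal F).subschemeι with hhdef
  have hHi : PicF.IsInvertible ((Scheme.Modules.pullback (hypIdeal F).subschemeι).obj (Twist.twistProjSpace 3 k 1)) :=
    isInvertible_pullback_twist _ 1
  have hmk : mk _ hHi = h := by
    rw [mk_pullback_twist, zpow_one]
  -- the degree of `C`
  have hch : dot k (hypIdeal F).subscheme (ic C hCe) h = -(d * m : ℤ) := by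
    rw [dot_ic_eq, ← hmk, degOn_eq_deg, ← hdeg]
    congr 1
    unfold Curv2.deg
    congr 1
    exact @euler_congr k _ _ (_) _ _ ((Scheme.Modules.pullbackComp C.subschemeι (hypIdeal F).subschemeι).app _)
  -- the genus of `C`
  have hcc : 2 * (chi k (hypIdeal F).subscheme 1 - chi k (hypIdeal F).subscheme (ic C hCe)) =
      (d : ℤ) * m * (4 - (d : ℤ) - m) := by
    rw [← euler_quotMod_eq k _ hCe, euler_quotMod_sub, ← hchi]
    rfl
  have hrr := rr k (hypIdeal F).subscheme hX2 hW hWi (ic C hCe)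
  rw [hw, dot_zpow_right k _ h2, hch] at hrr
  have hc2 : dot k (hypIdeal F).subscheme (ic C hCe) (ic C hCe) = (d : ℤ) * m * m := by
    push_cast at hrr
    linear_combination (-1 : ℤ) * hrr - hcc
  -- the class `C + m H`
  obtain ⟨L, hL, hLe⟩ := exists_mk (ic C hCe * h ^ (m : ℤ))
  have hlh : dot k (hypIdeal F).subscheme (mk L hL) (mk _ hHi) = 0 := by
    rw [← hLe, hmk, dot_mul_left k _ h2, dot_zpow_left k _ h2, hhh, hch]
    ring
  have hll : dot k (hypIdeal F).subscheme (mk L hL) (mk L hL) = 0 := by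
    rw [← hLe, dot_mul_left k _ h2, dot_mul_right k _ h2, dot_mul_right k _ h2, dot_zpow_left k _ h2,
      dot_zpow_left k _ h2, dot_zpow_right k _ h2, dot_zpow_right k _ h2, hhh, hc2,
      dot_comm k _ h (ic C hCe), hch]
    ring
  have htau := tau_of_num k (hypIdeal F).subscheme hX2 hW hWi hamp hHi ((d : ℤ) - (3 + 1)) (by
    rw [hmk]; exact hw) hL hlh hll
  obtain ⟨n, hn, hn'⟩ := Lefpen.H608.AlgTriv.exists_tensorPow_iso_of_isTauEquivZero
    (h1_gen hG1 (fun _ : Fin 1 => F) _ hci hs2') htau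
  have htriv := noTorsion_gen hG1 (fun _ : Fin 1 => F) _ hci hs2' L hL n hn hn'
  have h1 : mk L hL = 1 := (mk_eq_one_iff hL).2 htriv
  have h3 : ic C hCe = h ^ (-(m : ℤ)) := by
    rw [zpow_neg, eq_inv_iff_mul_eq_one, hLe, h1]
  exact form_of_iso_gen hG1 (fun _ : Fin 1 => F) _ hci hs2' C m ((mk_eq_hyp_zpow_iff _ _ _).1 h3)

end K287.CIMain
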