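import Groth.Agent.Surf.K464.Curves
import Groth.Agent.S7860
import Groth.Agent.S4306
import Groth.Agent.VarietyB.EulerBinom
import Groth.Agent.Lefpen.H21.PicTwist

/-!
# Numerical part: surfaces with `K = e H`

* `rr`: Riemann–Roch `2 χ(a) = a.a - a.w + 2 χ(1)` in `Pic X`.
* `tau_of_num`: if `w = h ^ e`, `h` ample, `l.h = 0`, `l.l = 0`, then `l` is τ-equivalent to zero.
* `six_c`: `6 χ(P^3, O(t)) = (t+1)(t+2)(t+3)`.
-/

set_option autoImplicit false
universe u
open CategoryTheory CategoryTheory.Limits AlgebraicGeometry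

namespace K287.Num

open Groth.Agent Groth.Agent.Grpsch.PicGrp K464.Base

section surface

variable (k : Type u) [Field k] (X : Scheme.{u}) [X.Over (Spec (CommRingCat.of k))]
  [IsProper (X ↘ Spec (CommRingCat.of k))]

theorem dim_comp [IrreducibleSpace X] (hdim : topologicalKrullDim X = 2) :
    ∀ Z ∈ irreducibleComponents (X : Type u), topologicalKrullDim Z = 2 := by
  intro Z hZ
  rw [irreducibleComponents_eq_singleton] at hZ
  obtain rfl : Z = Set.univ := hZ
  rw [← hdim]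
  exact IsHomeomorph.topologicalKrullDim_eq _ (Homeomorph.Set.univ X).isHomeomorph

/-- Riemann–Roch. -/
theorem rr [Smooth (X ↘ Spec (CommRingCat.of k))] [IrreducibleSpace X] (hdim : topologicalKrullDim X = 2)
    {W : X.Modules} (hW : ExtPow.IsExtPow 2 (Omega.sheaf (X ↘ (Spec (CommRingCat.of k)))) W)
    (hWi : PicF.IsInvertible W) (a : Pic X) :
    2 * chi k X a = dot k X a a - dot k X a (mk W hWi) + 2 * chi k X 1 := by
  obtain ⟨L, hL, rfl⟩ := exists_mk a
  have h := S7860.result k X (dim_comp X hdim) W hW L hL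
  have h2 : topologicalKrullDim X ≤ (2 : ℕ) := hdim.le
  rw [intNum_eq_dot k X h2 hL hL, intNum_eq_dot k X h2 hL hWi] at h
  exact h

theorem eulerLE (hdim : topologicalKrullDim X = 2) (F : X.Modules) :
    FGA.eulerCharLE k X F 2 = Curv2.euler k X F :=
  Fga.IntAdd.eulerCharLE_eq k X 2 hdim.le F

theorem chi_tens {A B : X.Modules} (hA : PicF.IsInvertible A) (hB : PicF.IsInvertible B) (m n : ℕ) :
    Curv2.euler k X (CohB1.tensorMod (CohB1.tensorPow A m) (CohB1.tensorPow B n)) =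
      chi k X (mk A hA ^ m * mk B hB ^ n) := by
  obtain ⟨A', hA', h1⟩ := exists_mk (mk A hA ^ m)
  rw [← mk_tensorPow, ← mk_tensorPow, mk_mul_mk, chi_mk]

theorem tau_of_num [IsAlgClosed k] [Smooth (X ↘ Spec (CommRingCat.of k))] [IrreducibleSpace X]
    (hdim : topologicalKrullDim X = 2)
    {W : X.Modules} (hW : ExtPow.IsExtPow 2 (Omega.sheaf (X ↘ (Spec (CommRingCat.of k)))) W)
    (hWi : PicF.IsInvertible W) {H : X.Modules} (hHa : CohB1.IsAmple H) (hHi : PicF.IsInvertible H) (e : ℤ)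
    (hWH : mk W hWi = mk H hHi ^ e) {L : X.Modules} (hL : PicF.IsInvertible L)
    (hLH : dot k X (mk L hL) (mk H hHi) = 0) (hLL : dot k X (mk L hL) (mk L hL) = 0) :
    Pic13.IsTauEquivZero k X L := by
  have h2 : topologicalKrullDim X ≤ (2 : ℕ) := hdim.le
  obtain ⟨H', hH', ⟨eH⟩⟩ := exists_inverse hHi
  obtain ⟨L', hL', ⟨eL⟩⟩ := exists_inverse hL
  have hl : ∀ n : ℤ, chi k X (mk L hL ^ n) = chi k X 1 := by
    intro n
    have h := rr k X hdim hW hWi (mk L hL ^ n)
    rw [dot_zpow_left k X h2, dot_zpow_right k X h2, hLL, dot_zpow_left k X h2, hWH, dot_zpow_right k X h2,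
      hLH] at h
    simp only [mul_zero, sub_zero, zero_add] at h
    linarith
  have key : ∀ m n : ℤ, chi k X (mk L hL ^ m * mk H hHi ^ n) = chi k X (mk H hHi ^ n) := by
    intro m n
    rw [chi_mul, hl, dot_zpow_left k X h2, dot_zpow_right k X h2, hLH]
    ring
  have iH : mk H' hH' = (mk H hHi)⁻¹ := by
    rw [eq_inv_iff_mul_eq_one, mul_comm, mk_mul_mk, mk_eq_one_iff]
    exact ⟨eH⟩
  have iL : mk L' hL' = (mk L hL)⁻¹ := by
    rw [eq_inv_iff_mul_eq_one, mul_comm, mk_mul_mk, mk_eq_one_iff]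
    exact ⟨eL⟩
  refine S4306.result k X 2 h2 H H' L L' hHa hL ⟨eH⟩ ⟨eL⟩ fun m n => ?_
  have hp : ∀ {B : X.Modules} (hB : PicF.IsInvertible B), Curv2.euler k X (CohB1.tensorPow B n) =
      chi k X (mk B hB ^ n) := fun {B} hB => by rw [← mk_tensorPow, chi_mk]
  rw [eulerLE k X hdim, eulerLE k X hdim, eulerLE k X hdim, eulerLE k X hdim, eulerLE k X hdim, eulerLE k X hdim,
    chi_tens k X hL hHi, chi_tens k X hL hH', chi_tens k X hL' hHi, chi_tens k X hL' hH', hp hHi, hp hH', iH, iL]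
  have e1 : ∀ {a : Pic X} (j : ℕ), (a⁻¹) ^ j = a ^ (-(j : ℤ)) := fun {a} j => by
    rw [inv_pow, zpow_neg, zpow_natCast]
  have e2 : ∀ {a : Pic X} (j : ℕ), a ^ j = a ^ (j : ℤ) := fun {a} j => (zpow_natCast a j).symm
  rw [e1, e1, e2, e2 (a := mk H hHi)]
  exact ⟨key _ _, key _ _, key _ _, key _ _⟩

end surface

section binom

open VarietyB.EulerBinom

theorem N_eq (n d : ℕ) : N n d = (n + d).choose d := by
  have e : {m : Fin (n + 1) →₀ ℕ | m.degree = d} ≃ Sym (Fin (n + 1)) d :=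
    (Equiv.subtypeEquivRight fun m => by rfl).trans (Sym.equivNatSum (Fin (n + 1)) d).symm
  rw [N, Nat.card_congr e, Nat.card_eq_fintype_card, Sym.card_sym_eq_choose, Fintype.card_fin]
  congr 1
  omega

theorem six_choose (m : ℕ) : 6 * (((3 + m).choose m : ℕ) : ℤ) = (m + 1) * (m + 2) * (m + 3) := by
  have h : (3 + m).choose m = (m + 3).choose 3 := by
    rw [add_comm 3 m, Nat.choose_symm_add]
  have h2 := Nat.descFactorial_eq_factorial_mul_choose (m + 3) 3
  simp only [Nat.descFactorial, Nat.factorial] at h2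
  have h3 : (m + 3 - 2) = m + 1 := by omega
  have h4 : (m + 3 - 1) = m + 2 := by omega
  rw [h]
  simp only [h3, h4, Nat.sub_zero, mul_one] at h2
  zify at h2
  linarith

theorem six_c (t : ℤ) : 6 * c 3 t = (t + 1) * (t + 2) * (t + 3) := by
  rw [c]
  split_ifs with h1 h2
  · obtain ⟨m, rfl⟩ := Int.eq_ofNat_of_zero_le h1
    rw [N_eq, Int.toNat_natCast, six_choose]
  · obtain ⟨m, hm⟩ := Int.eq_ofNat_of_zero_le (show 0 ≤ -((3 : ℤ) + 1) - t by push_cast at h2; omega)
    have ht : t = -4 - m := by omega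
    have h5 : (-(((3 : ℕ) : ℤ) + 1) - t).toNat = m := by push_cast; omega
    rw [h5, N_eq]
    have := six_choose m
    rw [ht]
    linear_combination (-1 : ℤ) * this
  · have h3 : t = -1 ∨ t = -2 ∨ t = -3 := by push_cast at h2; omega
    rcases h3 with rfl | rfl | rfl <;> norm_num

end binom

end K287.Num
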