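import Groth.Agent.LefPen.K287.Hyp
import Groth.Agent.LefPen.K287.Num
import Groth.Agent.S14334
import Groth.Agent.S4037
import Groth.Agent.Lefpen.H608.AlgTriv
import Groth.Agent.Lefpen.H608.CIH1
import Groth.Agent.Lefpen.H121.CurveForm
import Groth.Agent.Surf.K457.Smooth
import Groth.Agent.JacVar.K533.CurveBasic
import Groth.Agent.IntTh.K711.ProjDim

/-!
# Curves on smooth surfaces in `P^3` with the degree and genus of a complete intersection

* `exists_form_of_iso`: a Cartier ideal `≅ O_Y(-m)` on a smooth complete intersection `Y` is cut out by a form of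
  degree `m`.
* `h1_zero`, `noTorsion`, `geomConn`, `form_of_iso`: the needed facts for `V(F)`, `F` one form.
* `dot_h_h`: `H.H = d` for a surface of degree `d` in `P^3`.
-/

set_option autoImplicit false
universe u

open CategoryTheory AlgebraicGeometry Limits TopologicalSpace Opposite MvPolynomial

namespace K287.CISurf

section form

open LefPen Groth.Agent.Lefpen.H718.Chart Groth.Agent.Lefpen.H705.HypIdeal Groth.Agent.Lefpen.H705.SecIdeal
open Groth.Agent.Lefpen.H705.ChartPoly Groth.Agent.Sga5 Groth.Agent.Fdesc.LocGen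
open Groth.Agent.Lefpen.H121.ChartLift Groth.Agent.FormalB Groth.Agent.Dix.IdealModCartier
open Groth.Agent.Lefpen.H121.CurveForm

variable {N d : ℕ} {k : Type u} [Field k] {a : Fin d → ℕ} (G : ∀ j : Fin d, Form N k (a j))

/-- A Cartier divisor on a complete intersection with ideal `≅ O_Y(-m)` is cut out by a form of degree `m`. -/
theorem exists_form_of_iso' [Infinite k] {n : ℕ} (hN : N = n + d) (hn : 1 ≤ n) [SmoothOfRelativeDimension n (yStr G)]
    (ha : ∀ j, 1 ≤ a j) (C : (Y G).IdealSheafData) (m : ℕ) (e : ℤ) (he : e = -(m : ℤ))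
    (φ : ClSub.idealMod C ≅ (Scheme.Modules.pullback (yι G)).obj (Twist.twistProjSpace N k e)) :
    ∃ H : Form N k m, C = (hypIdeal H).comap (yι G) := by
  obtain ⟨g, hg, hrel⟩ := exists_gens_pullback G e
  let t : ∀ i : Fin (N + 1), Γ(ClSub.idealMod C, ychart G i) := fun i => φ.inv.app _ (g i)
  have ht : ∀ i, IsGen (t i) := fun i => (hg i).app φ.inv
  have htrel : ∀ i j, ores (inf_le_left : ychart G i ⊓ ychart G j ≤ _) (fn G i (X j)) ^ e.toNat •
          res _ (inf_le_left : ychart G i ⊓ ychart G j ≤ _) (t i) =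
        ores (inf_le_left : ychart G i ⊓ ychart G j ≤ _) (fn G i (X j)) ^ (-e).toNat •
          res _ (inf_le_right : ychart G i ⊓ ychart G j ≤ _) (t j) := by
    intro i j
    have h1 := congrArg (φ.inv.app (ychart G i ⊓ ychart G j)) (hrel i j)
    rw [Scheme.Modules.Hom.app_smul, Scheme.Modules.Hom.app_smul, app_res, app_res] at h1
    exact h1
  let f : ∀ i : Fin (N + 1), Γ(Y G, ychart G i) := fun i => val C (t i)
  have hf : ∀ i, GenOn C (f i) := fun i => genOn_of_isGen (ht i)
  have hfrel : ∀ i j, ores (inf_le_left : ychart G i ⊓ ychart G j ≤ _) (f i * fn G i (X j) ^ e.toNat) =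
      ores (inf_le_right : ychart G i ⊓ ychart G j ≤ _) (f j) *
        ores (inf_le_left : ychart G i ⊓ ychart G j ≤ _) (fn G i (X j)) ^ (-e).toNat := by
    intro i j
    have h1 := congrArg (val C) (htrel i j)
    rw [val_smul, val_smul, val_res, val_res] at h1
    rw [map_mul, map_pow, mul_comm, h1, mul_comm]
  have key := exists_form G hN hn ha (-e).toNat e.toNat f hfrel
  have hfC : ∀ i, C.ideal ⟨ychart G i, isAffineOpen_ychart G i⟩ = Ideal.span {f i} := by
    intro i
    have h1 := (hf i ⟨ychart G i, isAffineOpen_ychart G i⟩ le_rfl).2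
    rwa [ores_refl] at h1
  have he1 : e.toNat = 0 := Int.toNat_of_nonpos (by omega)
  have he2 : (-e).toNat = m := by omega
  obtain ⟨H, hH, hHf⟩ := key.1 (by omega)
  have hH' : H.IsHomogeneous m := by
    have h3 : (-e).toNat - e.toNat = m := by omega
    rwa [h3] at hH
  refine ⟨⟨H, hH'⟩, ?_⟩
  refine Scheme.IdealSheafData.ext_of_iSup_eq_top
    (fun i : Fin (N + 1) => ⟨ychart G i, isAffineOpen_ychart G i⟩)
    (Groth.Agent.Lefpen.H708.Geo.iSup_preimage_chart (yι G)) (fun i => ?_)
  rw [hfC]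
  have h1 := secIdeal_ideal_of_le (yι G) ({⟨H, hH'⟩} : Set (Form N k _)) i
    ⟨ychart G i, isAffineOpen_ychart G i⟩ le_rfl
  rw [Set.image_singleton, ← fn_eq_eqn] at h1
  have h2 : secIdeal (yι G) ({⟨H, hH'⟩} : Set (Form N k _)) = (hypIdeal (⟨H, hH'⟩ : Form N k _)).comap (yι G) := by
    rw [secIdeal, iSup_singleton]
  rw [← h2, h1, hHf]

end form

section transport

open LefPen

variable (k : Type u) [Field k] {d : ℕ} (G : Form 3 k d)

theorem hyp_eq_ci : ciIdeal (fun _ : Fin 1 => G) = hypIdeal G := by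
  rw [ciIdeal, iSup_unique]

variable {k}

theorem form_of_iso_gen [Infinite k] {a : Fin 1 → ℕ} (ha : ∀ j, 1 ≤ a j) (G : ∀ j : Fin 1, Form 3 k (a j))
    (I : (CohB1.ProjSpace 3 k).IdealSheafData) (hI : ciIdeal G = I)
    (hs : SmoothOfRelativeDimension 2 (I.subschemeι ≫ CohB1.ProjSpace.toSpec 3 k)) (C : I.subscheme.IdealSheafData)
    (m : ℕ) (h : Nonempty (ClSub.idealMod C ≅
      (Scheme.Modules.pullback I.subschemeι).obj (Twist.twistProjSpace 3 k (-(m : ℤ))))) :
    ∃ H : Form 3 k m, C = (hypIdeal H).comap I.subschemeι := by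
  subst hI
  obtain ⟨φ⟩ := h
  have hs' : SmoothOfRelativeDimension 2 (Groth.Agent.Lefpen.H718.Chart.yStr G) := hs
  exact exists_form_of_iso' G rfl (by norm_num) ha C m _ rfl φ

theorem h1_gen {a : Fin 1 → ℕ} (ha : ∀ j, 1 ≤ a j) (G : ∀ j : Fin 1, Form 3 k (a j))
    (I : (CohB1.ProjSpace 3 k).IdealSheafData) (hI : ciIdeal G = I)
    (hs : SmoothOfRelativeDimension 2 (I.subschemeι ≫ CohB1.ProjSpace.toSpec 3 k)) :
    Subsingleton (Coh.HH I.subscheme (Coh.structureModule I.subscheme) 1) := by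
  subst hI
  have hs' : SmoothOfRelativeDimension 2 (Groth.Agent.Lefpen.H718.Chart.yStr G) := hs
  exact Groth.Agent.Lefpen.H608.CIH1.subsingleton_HH_of_smooth G (n := 2) rfl ha 1 (by norm_num) (by norm_num)

theorem noTorsion_gen [IsAlgClosed k] {a : Fin 1 → ℕ} (ha : ∀ j, 1 ≤ a j) (G : ∀ j : Fin 1, Form 3 k (a j))
    (I : (CohB1.ProjSpace 3 k).IdealSheafData) (hI : ciIdeal G = I)
    (hs : SmoothOfRelativeDimension 2 (I.subschemeι ≫ CohB1.ProjSpace.toSpec 3 k))
    (L : I.subscheme.Modules) (hL : PicF.IsInvertible L) (m : ℕ) (hm : 1 ≤ m)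
    (h : Nonempty (CohB1.tensorPow L m ≅ Coh.structureModule I.subscheme)) :
    Nonempty (L ≅ Coh.structureModule I.subscheme) := by
  subst hI
  have hs' : SmoothOfRelativeDimension 2 ((LefPen.ciIdeal G).subschemeι ≫ CohB1.ProjSpace.toSpec (2 + 1) k) := hs
  exact (Groth.Agent.S4037.result k 1 le_rfl a ha G).1 L hL m hm h

theorem geomConn_gen {a : Fin 1 → ℕ} (ha : ∀ j, 1 ≤ a j) (G : ∀ j : Fin 1, Form 3 k (a j))
    (I : (CohB1.ProjSpace 3 k).IdealSheafData) (hI : ciIdeal G = I) (hdim : topologicalKrullDim I.subscheme = 2) :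
    GeometricallyConnected (I.subschemeι ≫ CohB1.ProjSpace.toSpec 3 k) := by
  subst hI
  exact Groth.Agent.S14334.result k 3 1 (by norm_num) a ha G hdim (by norm_num)

end transport

end K287.CISurf
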