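import Groth.Agent.Coherent.K54.HodgePn
import Groth.Agent.ArSurf.K482.DetSes
import Groth.Agent.Lefpen.H21.PicTwist
import Groth.Agent.Dual.H339.OmegaRank
import Groth.Agent.Sga5.ProjSmooth
import Groth.Agent.Sga67.SerreVB

/-!
# The canonical module of projective space

* `det_biprod`: `Λ^r (L^r) = L^{⊗ r}` in the Picard group.
* `omega_projSpace`: `Λ^n Ω_{P^n_R/R} = O(-1)^{⊗ (n+1)}` in the Picard group (`R` any commutative ring).
* `omega_projSpace_iso`: over a field, `Λ^n Ω ≅ O(-n-1)`.
-/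

set_option autoImplicit false
universe u v

open CategoryTheory CategoryTheory.Limits AlgebraicGeometry
open Groth.Agent Groth.Agent.Grpsch.PicGrp

namespace K287.OmegaPn

attribute [local instance] Abelian.hasFiniteBiproducts

variable {X : Scheme.{u}}

theorem isInvertible_of_rank {M : X.Modules} (h : FlatMod.IsFinLocFreeOfRank 1 M) : PicF.IsInvertible M :=
  Ega2.QCohLocal.isFinLocFreeOfRank_one_iff.1 h

theorem rank_of_isInvertible {M : X.Modules} (h : PicF.IsInvertible M) : FlatMod.IsFinLocFreeOfRank 1 M :=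
  Ega2.QCohLocal.isFinLocFreeOfRank_one_iff.2 h

/-- The top exterior power of a module of rank `n` is invertible. -/
theorem isInvertible_extPow {n : ℕ} {E D : X.Modules} (hE : FlatMod.IsFinLocFreeOfRank n E)
    (hD : ExtPow.IsExtPow n E D) : PicF.IsInvertible D := by
  have h := Krr.H487.KerRank.isFinLocFreeOfRank_extPow hE hD
  rw [Nat.choose_self] at h
  exact isInvertible_of_rank h

theorem rank_biprod {L : X.Modules} (hL : PicF.IsInvertible L) (r : ℕ) :
    FlatMod.IsFinLocFreeOfRank r (⨁ fun _ : Fin r => L) := by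
  induction r with
  | zero =>
    refine K54.HodgePn.rank_zero_of_isZero ?_
    rw [IsZero.iff_id_eq_zero]
    exact biproduct.hom_ext' _ _ fun j => j.elim0
  | succ r ih =>
    exact Krr.H487.KerRank.isFinLocFreeOfRank_mid
      (K54.HodgePn.shortExact_seq (fun _ : Fin (r + 1) => L)) ih (rank_of_isInvertible hL)

theorem mk_eq_of_isExtPow {E D D' : X.Modules} {n : ℕ} (hD : ExtPow.IsExtPow n E D) (hD' : ExtPow.IsExtPow n E D')
    (h : PicF.IsInvertible D) (h' : PicF.IsInvertible D') : mk D h = mk D' h' := by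
  obtain ⟨e⟩ := Sga67.TensorOps.nonempty_iso_of_isExtPow (Iso.refl _) hD hD'
  exact mk_congr e

/-- `Λ^r (L^r) = L^{⊗ r}`. -/
theorem det_biprod {L : X.Modules} (hL : PicF.IsInvertible L) (r : ℕ) :
    ∀ (D : X.Modules) (_ : ExtPow.IsExtPow r (⨁ fun _ : Fin r => L) D) (h : PicF.IsInvertible D),
      mk D h = mk L hL ^ r := by
  induction r with
  | zero =>
    intro D hD h
    rw [pow_zero, mk_eq_one_iff]
    exact Sga67.TensorOps.nonempty_iso_of_isExtPow (Iso.refl _) hD (Sga67.TensorOps.isExtPow_zero _)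
  | succ r ih =>
    intro D hD h
    obtain ⟨D', hD'⟩ := Dual.H366.ExtQCoh.exists_isExtPow r
      (Ega2.QCohLocal.isQCoh_of_isFinLocFree (Krr.H487.KerRank.isFinLocFree_of_rank (rank_biprod hL r)))
    have h' := isInvertible_extPow (rank_biprod hL r) hD'
    obtain ⟨e⟩ := K482.DetSes.det_ses (K54.HodgePn.shortExact_seq (fun _ : Fin (r + 1) => L))
      (rank_biprod hL r) (rank_of_isInvertible hL) hD' hD (Sga67.TensorOps.isExtPow_one L)
    rw [pow_succ, ← ih D' hD' h', mk_mul_mk]
    exact mk_congr e.symm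

section Pn

variable (n : ℕ) (R : Type u) [CommRing R]

theorem isInv (e : ℤ) : PicF.IsInvertible (Twist.twistProjSpace n R e) :=
  Ega3B.ProjFrame.isInvertible_twistProjSpace n R e

/-- **The canonical module of projective space.** -/
theorem omega_projSpace {D : (CohB1.ProjSpace n R).Modules}
    (hD : ExtPow.IsExtPow n (Omega.sheaf (CohB1.ProjSpace.toSpec n R)) D) (h : PicF.IsInvertible D) :
    mk D h = mk (Twist.twistProjSpace n R (-1)) (isInv n R (-1)) ^ (n + 1) := by
  have hs : SmoothOfRelativeDimension n (CohB1.ProjSpace.toSpec n R) := Sga5.ProjSmooth.smooth_toSpec n R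
  have h1 : FlatMod.IsFinLocFreeOfRank n (Omega.sheaf (CohB1.ProjSpace.toSpec n R)) :=
    Dual.H339.OmegaRank.isFinLocFreeOfRank_omega n (CohB1.ProjSpace.toSpec n R)
  have hB := rank_biprod (isInv n R (-1)) (n + 1)
  obtain ⟨DB, hDB⟩ := Dual.H366.ExtQCoh.exists_isExtPow (n + 1)
    (Ega2.QCohLocal.isQCoh_of_isFinLocFree (Krr.H487.KerRank.isFinLocFree_of_rank hB))
  have hDB' := isInvertible_extPow hB hDB
  have h0 : FlatMod.IsFinLocFreeOfRank 1 (Twist.twistProjSpace n R 0) := rank_of_isInvertible (isInv n R 0)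
  have e' : Nonempty (CohB1.tensorMod D (Twist.twistProjSpace n R 0) ≅ DB) :=
    K482.DetSes.det_ses (K54.Euler.shortExact n R) h1 h0 hD hDB (Sga67.TensorOps.isExtPow_one _)
  obtain ⟨e⟩ := e'
  rw [← det_biprod (isInv n R (-1)) (n + 1) DB hDB hDB']
  have h2 : mk D h * mk (Twist.twistProjSpace n R 0) (isInv n R 0) = mk DB hDB' := by
    rw [mk_mul_mk]
    exact mk_congr e
  have h3 : mk (Twist.twistProjSpace n R 0) (isInv n R 0) = 1 := by
    rw [mk_eq_one_iff]
    exact Sga67.SerreVB.nonempty_twist_zero n R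
  rw [← h2, h3, mul_one]

end Pn

end K287.OmegaPn
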